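import Mathlib

/-!
A local algebra with a regular element cutting out a formally smooth quotient is formally smooth.
-/

set_option linter.style.haveILetI false

universe u

open TensorProduct IsLocalRing KaehlerDifferential

namespace Groth.Agent.RegImmSmooth

theorem mem_smul_of_one_tmul_eq_zero {P k : Type u} [CommRing P] [CommRing k] [Algebra P k]
    (hk : Function.Surjective (algebraMap P k)) {M : Type u} [AddCommGroup M] [Module P M] (x : M)
    (hx : (1 : k) ⊗ₜ[P] x = 0) : x ∈ RingHom.ker (algebraMap P k) • (⊤ : Submodule P M) := by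
  let e : (P ⧸ RingHom.ker (Algebra.ofId P k)) ≃ₐ[P] k := Ideal.quotientKerAlgEquivOfSurjective hk
  have h1 : ((Ideal.Quotient.mk (RingHom.ker (Algebra.ofId P k)) 1) ⊗ₜ[P] x) = 0 := by
    have := congrArg (TensorProduct.map e.symm.toLinearMap LinearMap.id) hx
    rwa [TensorProduct.map_tmul, map_zero, AlgEquiv.toLinearMap_apply, map_one, LinearMap.id_apply,
      ← map_one (Ideal.Quotient.mk (RingHom.ker (Algebra.ofId P k)))] at this
  have h2 := congrArg (TensorProduct.quotTensorEquivQuotSMul M _) h1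
  rw [TensorProduct.quotTensorEquivQuotSMul_mk_tmul, map_zero, one_smul, Submodule.Quotient.mk_eq_zero] at h2
  exact h2

theorem mem_mul_of_mem_smul_top {P : Type u} [CommRing P] (I J : Ideal P) (x : J)
    (hx : x ∈ I • (⊤ : Submodule P J)) : x.1 ∈ I * J := by
  induction hx using Submodule.smul_induction_on' with
  | smul m hm y _ => exact Ideal.mul_mem_mul hm y.2
  | add u _ v _ hu hv => exact add_mem hu hv

theorem mem_smul_top_of_mem_mul {P : Type u} [CommRing P] (I J : Ideal P) (x : J)
    (hx : x.1 ∈ I * J) : x ∈ I • (⊤ : Submodule P J) := by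
  have key : ∀ y ∈ I * J, ∃ z ∈ I • (⊤ : Submodule P J), (z : P) = y := by
    intro y hy
    induction hy using Submodule.mul_induction_on' with
    | mem_mul_mem m hm n hn => exact ⟨m • ⟨n, hn⟩, Submodule.smul_mem_smul hm trivial, rfl⟩
    | add u _ v _ hu hv =>
      obtain ⟨a, ha, rfl⟩ := hu
      obtain ⟨b, hb, rfl⟩ := hv
      exact ⟨a + b, add_mem ha hb, rfl⟩
  obtain ⟨z, hz, hzx⟩ := key _ hx
  rwa [← Subtype.ext hzx]

variable {A S : Type u} [CommRing A] [CommRing S] [IsLocalRing S] [Algebra A S]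

set_option maxHeartbeats 800000 in
theorem formallySmooth_of_regular (P : Type u) [CommRing P] [Algebra A P] [Algebra P S] [IsScalarTower A P S]
    [Algebra.FormallySmooth A P] [Module.Free P Ω[P⁄A]] [Module.Finite P Ω[P⁄A]]
    (h₁ : Function.Surjective (algebraMap P S)) (h₂ : (RingHom.ker (algebraMap P S)).FG)
    (r : S) (hr : r ∈ maximalIdeal S) (hreg : ∀ y, r * y = 0 → y = 0)
    (hS' : Algebra.FormallySmooth A (S ⧸ Ideal.span {r})) : Algebra.FormallySmooth A S := by
  obtain ⟨t, ht⟩ := h₁ r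
  let S' := S ⧸ Ideal.span {r}
  have hle : Ideal.span {r} ≤ maximalIdeal S := (Ideal.span_singleton_le_iff_mem _).2 hr
  haveI : Nontrivial S' := Ideal.Quotient.nontrivial_iff.2 fun h =>
    (maximalIdeal.isMaximal S).ne_top (top_unique (h ▸ hle))
  haveI : IsLocalRing S' := IsLocalRing.of_surjective' (Ideal.Quotient.mk _) Ideal.Quotient.mk_surjective
  let k := ResidueField S
  let g : S' →+* k := Ideal.Quotient.lift _ (residue S) fun a ha => (residue_eq_zero_iff a).2 (hle ha)
  letI : Algebra S' k := g.toAlgebra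
  haveI : IsScalarTower P S' k := IsScalarTower.of_algebraMap_eq fun _ => rfl
  have h₁' : Function.Surjective (algebraMap P S') :=
    (Ideal.Quotient.mk_surjective (I := Ideal.span {r})).comp h₁
  have hmemK : ∀ x, x ∈ RingHom.ker (algebraMap P S') ↔ ∃ b, x - b * t ∈ RingHom.ker (algebraMap P S) := by
    intro x
    rw [RingHom.mem_ker]
    show Ideal.Quotient.mk (Ideal.span {r}) (algebraMap P S x) = 0 ↔ _
    rw [Ideal.Quotient.eq_zero_iff_mem, Ideal.mem_span_singleton']
    refine ⟨fun ⟨c, hc⟩ => ?_, fun ⟨b, hb⟩ => ⟨algebraMap P S b, ?_⟩⟩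
    · obtain ⟨b, rfl⟩ := h₁ c
      exact ⟨b, by rw [RingHom.mem_ker, map_sub, map_mul, ht, hc, sub_self]⟩
    · rw [RingHom.mem_ker, map_sub, map_mul, ht, sub_eq_zero] at hb
      exact hb.symm
  have hK : RingHom.ker (algebraMap P S') = RingHom.ker (algebraMap P S) ⊔ Ideal.span {t} := by
    ext x
    rw [hmemK, Submodule.mem_sup]
    constructor
    · rintro ⟨b, hb⟩
      exact ⟨_, hb, b * t, Ideal.mem_span_singleton'.2 ⟨b, rfl⟩, sub_add_cancel x (b * t)⟩
    · rintro ⟨y, hy, z, hz, rfl⟩
      obtain ⟨b, rfl⟩ := Ideal.mem_span_singleton'.1 hz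
      exact ⟨b, by rwa [add_sub_cancel_right]⟩
  have h₂' : (RingHom.ker (algebraMap P S')).FG := by
    rw [hK]; exact Submodule.FG.sup h₂ (Submodule.fg_span_singleton t)
  have hmax : maximalIdeal S' ≤ RingHom.ker (algebraMap S' k) := by
    intro z hz
    obtain ⟨z, rfl⟩ := Ideal.Quotient.mk_surjective z
    exact (residue_eq_zero_iff z).2 fun hu => hz (hu.map _)
  have hinj' := (Algebra.FormallySmooth.iff_injective_cotangentComplexBaseChange (R := A) (S := S') P k h₁' h₂' hmax).1 hS'
  rw [Algebra.FormallySmooth.iff_injective_cotangentComplexBaseChange_residueField (R := A) (S := S) P h₁ h₂,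
    injective_iff_map_eq_zero]
  intro z hz
  have hkP : Function.Surjective (algebraMap P k) := by
    rw [IsScalarTower.algebraMap_eq P S k]
    exact residue_surjective.comp h₁
  obtain ⟨x, rfl⟩ : ∃ x : RingHom.ker (algebraMap P S), (1 : k) ⊗ₜ[P] x = z := by
    clear hz
    induction z using TensorProduct.induction_on with
    | zero => exact ⟨0, tmul_zero _ _⟩
    | add u v hu hv =>
      obtain ⟨a, rfl⟩ := hu
      obtain ⟨b, rfl⟩ := hv
      exact ⟨a + b, tmul_add _ _ _⟩
    | tmul c y =>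
      obtain ⟨p, rfl⟩ := hkP c
      exact ⟨p • y, by rw [← smul_tmul, Algebra.smul_def, mul_one]⟩
  let x' : RingHom.ker (algebraMap P S') :=
    ⟨x.1, (hmemK _).2 ⟨0, by rw [zero_mul, sub_zero]; exact x.2⟩⟩
  have h0 : (1 : k) ⊗ₜ[P] x' = 0 := by
    refine hinj' ?_
    rw [map_zero, cotangentComplexBaseChange_tmul]
    rw [cotangentComplexBaseChange_tmul] at hz
    exact hz
  have hx' := mem_smul_of_one_tmul_eq_zero hkP x' h0
  set 𝔪 := RingHom.ker (algebraMap P k) with h𝔪
  have hmem : x.1 ∈ 𝔪 * RingHom.ker (algebraMap P S') :=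
    mem_mul_of_mem_smul_top 𝔪 (RingHom.ker (algebraMap P S')) x' hx'
  rw [hK, Ideal.mul_sup, Submodule.mem_sup] at hmem
  obtain ⟨a, ha, c, hc, hac⟩ := hmem
  obtain ⟨b, hb, rfl⟩ := Ideal.mem_mul_span_singleton.1 hc
  have hbJ : b ∈ RingHom.ker (algebraMap P S) := by
    rw [RingHom.mem_ker]
    refine hreg _ ?_
    have h5 : algebraMap P S a = 0 :=
      RingHom.mem_ker.1 ((Ideal.mul_le_right : 𝔪 * RingHom.ker (algebraMap P S) ≤ RingHom.ker (algebraMap P S)) ha)
    have h6 : algebraMap P S (a + b * t) = 0 := by rw [hac]; exact RingHom.mem_ker.1 x.2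
    rw [map_add, h5, zero_add, map_mul, ht, mul_comm] at h6
    exact h6
  have ht𝔪 : t ∈ 𝔪 := by
    rw [h𝔪, RingHom.mem_ker, IsScalarTower.algebraMap_apply P S k, ht]
    exact (residue_eq_zero_iff r).2 hr
  have hxm : x.1 ∈ 𝔪 * RingHom.ker (algebraMap P S) := by
    rw [← hac, mul_comm b t]
    exact add_mem ha (Ideal.mul_mem_mul ht𝔪 hbJ)
  have hxtop : x ∈ 𝔪 • (⊤ : Submodule P (RingHom.ker (algebraMap P S))) :=
    mem_smul_top_of_mem_mul 𝔪 (RingHom.ker (algebraMap P S)) x hxm
  clear hxm hac hx' h0 x' hz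
  induction hxtop using Submodule.smul_induction_on' with
  | smul m hm y _ => rw [← smul_tmul, Algebra.smul_def, RingHom.mem_ker.1 hm, mul_one, zero_tmul]
  | add u _ v _ hu hv => rw [tmul_add, hu, hv, add_zero]

theorem formallySmooth_of_isWeaklyRegular {A B T : Type u} [CommRing A] [CommRing B] [CommRing T] [IsLocalRing T]
    [Algebra A B] [Algebra.FinitePresentation A B] [Algebra A T] [Algebra B T] [IsScalarTower A B T]
    (q : Ideal B) [q.IsPrime] [IsLocalization.AtPrime T q] (rs : List T) (hrs : ∀ r ∈ rs, r ∈ maximalIdeal T)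
    (hreg : RingTheory.Sequence.IsWeaklyRegular T rs)
    (hS : Algebra.FormallySmooth A (T ⧸ Ideal.ofList rs)) : Algebra.FormallySmooth A T := by
  obtain ⟨n, f₀, hf₀⟩ := Algebra.FiniteType.iff_quotient_mvPolynomial''.mp
    (inferInstance : Algebra.FiniteType A B)
  let M' := q.primeCompl.comap f₀
  let P := Localization M'
  let fP : P →ₐ[A] T := IsLocalization.liftAlgHom (M := M')
      (f := (IsScalarTower.toAlgHom A B T).comp f₀) fun x ↦ by
    simpa using IsLocalization.map_units (M := q.primeCompl) _ ⟨f₀ x.1, x.2⟩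
  have hf₁ : Function.Surjective fP := by
    intro x
    obtain ⟨x, ⟨s, hs⟩, rfl⟩ := IsLocalization.exists_mk'_eq q.primeCompl x
    obtain ⟨x, rfl⟩ := hf₀ x
    obtain ⟨s, rfl⟩ := hf₀ s
    refine ⟨IsLocalization.mk' (M := M') _ x ⟨s, hs⟩, ?_⟩
    simp [fP, IsLocalization.lift_mk', Units.mul_inv_eq_iff_eq_mul, IsUnit.liftRight]
  have hfP : (RingHom.ker fP).FG := by
    have := Algebra.FinitePresentation.ker_fG_of_surjective _ hf₀
    convert! this.map (algebraMap _ P)
    refine le_antisymm ?_ (Ideal.map_le_iff_le_comap.mpr fun x hx ↦ by simp_all [fP])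
    intro x hx
    obtain ⟨x, s, rfl⟩ := IsLocalization.exists_mk'_eq M' x
    obtain ⟨a, ha, e⟩ : ∃ a ∈ q.primeCompl, a * f₀ x = 0 := by
      simpa [fP, IsLocalization.lift_mk', IsLocalization.map_eq_zero_iff q.primeCompl] using hx
    obtain ⟨a, rfl⟩ := hf₀ a
    rw [IsLocalization.mk'_mem_map_algebraMap_iff]
    exact ⟨a, ha, by simpa⟩
  algebraize [fP.toRingHom]
  haveI : Algebra.FormallyEtale (MvPolynomial (Fin n) A) P := .of_isLocalization M'
  haveI : Algebra.FormallySmooth A P := .comp _ (MvPolynomial (Fin n) A) _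
  haveI : Module.Free P Ω[P⁄A] :=
    .of_equiv (KaehlerDifferential.tensorKaehlerEquivOfFormallyEtale A (MvPolynomial (Fin n) A) P)
  haveI : Module.Finite P Ω[P⁄A] :=
    .equiv (KaehlerDifferential.tensorKaehlerEquivOfFormallyEtale A (MvPolynomial (Fin n) A) P)
  induction rs using List.reverseRecOn with
  | nil =>
    exact .of_equiv ((Ideal.quotientEquivAlgOfEq A (Ideal.ofList_nil (R := T))).trans (AlgEquiv.quotientBot A T))
  | append_singleton l r ih =>
    rw [RingTheory.Sequence.isWeaklyRegular_append_iff, RingTheory.Sequence.isWeaklyRegular_singleton_iff] at hreg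
    refine ih (fun x hx => hrs x (List.mem_append_left _ hx)) hreg.1 ?_
    have hl : Ideal.ofList l ≤ maximalIdeal T :=
      Ideal.span_le.2 fun x hx => hrs x (List.mem_append_left _ hx)
    haveI : Nontrivial (T ⧸ Ideal.ofList l) := Ideal.Quotient.nontrivial_iff.2 fun h =>
      (maximalIdeal.isMaximal T).ne_top (top_unique (h ▸ hl))
    haveI : IsLocalRing (T ⧸ Ideal.ofList l) :=
      IsLocalRing.of_surjective' (Ideal.Quotient.mk _) Ideal.Quotient.mk_surjective
    refine formallySmooth_of_regular P ?_ ?_ (Ideal.Quotient.mk _ r) ?_ ?_ ?_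
    · exact (Ideal.Quotient.mk_surjective (I := Ideal.ofList l)).comp hf₁
    · have h : (RingHom.ker (Ideal.Quotient.mk (Ideal.ofList l))).FG := by
        rw [Ideal.mk_ker]
        exact Submodule.fg_span l.finite_toSet
      exact Ideal.fg_ker_comp fP.toRingHom _ hfP h hf₁
    · haveI : IsLocalHom (Ideal.Quotient.mk (Ideal.ofList l)) :=
        IsLocalHom.of_surjective _ Ideal.Quotient.mk_surjective
      exact fun hu => hrs r (by simp) (IsLocalHom.map_nonunit (f := Ideal.Quotient.mk (Ideal.ofList l)) r hu)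
    · intro y hy
      obtain ⟨b, rfl⟩ := Ideal.Quotient.mk_surjective y
      rw [← map_mul, Ideal.Quotient.eq_zero_iff_mem] at hy
      rw [Ideal.Quotient.eq_zero_iff_mem]
      have h0 : Submodule.Quotient.mk (p := Ideal.ofList l • (⊤ : Submodule T T)) b = 0 := by
        refine hreg.2 ?_
        show r • Submodule.Quotient.mk b = r • 0
        rw [smul_zero, ← Submodule.Quotient.mk_smul, Submodule.Quotient.mk_eq_zero, smul_eq_mul,
          Ideal.mul_top]
        exact hy
      rwa [Submodule.Quotient.mk_eq_zero, smul_eq_mul, Ideal.mul_top] at h0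
    · have e1 : Ideal.span {Ideal.Quotient.mk (Ideal.ofList l) r} =
          (Ideal.span {r}).map (Ideal.Quotient.mkₐ A (Ideal.ofList l)) := by
        rw [Ideal.map_span, Set.image_singleton]; rfl
      have e2 : Ideal.ofList l ⊔ Ideal.span {r} = Ideal.ofList (l ++ [r]) := by
        rw [Ideal.ofList_append, Ideal.ofList_singleton]
      exact .of_equiv (((Ideal.quotientEquivAlgOfEq A e1).trans
        (DoubleQuot.quotQuotEquivQuotSupₐ A _ _)).trans (Ideal.quotientEquivAlgOfEq A e2)).symm

end Groth.Agent.RegImmSmooth
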